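import Cfsg.Agent.Lib.AutPSL.Sylow

/-!
A Sylow two-subgroup of the centralizer of an involution which has centre of order two and full
order in the model is Sylow in any ambient group.
-/

set_option autoImplicit false

namespace CfsgLib.TransvSylow

open Matrix
open scoped MatrixGroups

/-- the swap of the basis vectors one and four -/
def swapMat : SL(5, ZMod 2) := ⟨!![1,0,0,0,0; 0,0,0,0,1; 0,0,1,0,0; 0,0,0,1,0; 0,1,0,0,0], by decide +kernel⟩

/-- the highest root element -/
def top : SL(5, ZMod 2) := Matrix.SpecialLinearGroup.transvection (show (0 : Fin 5) ≠ 4 by decide) 1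

theorem top_mem : top ∈ (AutPSL.unitri : Subgroup SL(5, ZMod 2)) :=
  AutPSL.transvection_mem_unitri (show (0 : Fin 5) < 4 by decide) 1

theorem top_central {u : SL(5, ZMod 2)} (hu : u ∈ AutPSL.unitri) : u * top = top * u := by
  apply Subtype.ext
  ext i j
  simp only [Matrix.SpecialLinearGroup.coe_mul, top, Matrix.SpecialLinearGroup.transvection_coe, mul_add, add_mul,
    Matrix.mul_one, Matrix.one_mul, Matrix.add_apply]
  congr 1
  have h0 := hu i 0 (Fin.zero_le i)
  have h4 := hu 4 j (Fin.le_last j)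
  fin_cases i <;> fin_cases j <;> simp_all [Matrix.single_apply, Matrix.mul_apply, Fin.sum_univ_five]

theorem center_unitri {u : SL(5, ZMod 2)} (hu : u ∈ AutPSL.unitri)
    (hc : ∀ x ∈ (AutPSL.unitri : Subgroup SL(5, ZMod 2)), u * x = x * u) : u = 1 ∨ u = top := by
  set M := (u : Matrix (Fin 5) (Fin 5) (ZMod 2)) with hM
  have hzero : ∀ r s : Fin 5, r < s → ¬ (r = 0 ∧ s = 4) → M r s = 0 := by
    intro r s hrs hne
    by_cases hr : r = 0
    · subst hr
      have hsl : s < 4 := lt_of_le_of_ne (Fin.le_last s) (fun e => hne ⟨rfl, e⟩)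
      have := congrArg (fun z : SL(5, ZMod 2) => (z : Matrix (Fin 5) (Fin 5) (ZMod 2)) 0 4)
        (hc _ (AutPSL.transvection_mem_unitri hsl 1))
      simp [Matrix.SpecialLinearGroup.transvection_coe, mul_add, add_mul, hrs.ne, ← hM] at this
      exact this
    · have hir : (0 : Fin 5) < r := lt_of_le_of_ne (Fin.zero_le r) (Ne.symm hr)
      have := congrArg (fun z : SL(5, ZMod 2) => (z : Matrix (Fin 5) (Fin 5) (ZMod 2)) 0 s)
        (hc _ (AutPSL.transvection_mem_unitri hir 1))
      simp [Matrix.SpecialLinearGroup.transvection_coe, mul_add, add_mul, hrs.ne', ← hM] at this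
      exact this
  have hval : ∀ r s : Fin 5, M r s = (if r = s then 1 else 0) + (if r = 0 ∧ s = 4 then M 0 4 else 0) := by
    intro r s
    by_cases hrs : r < s
    · by_cases h : r = 0 ∧ s = 4
      · obtain ⟨rfl, rfl⟩ := h
        simp
      · rw [hzero r s hrs h, if_neg hrs.ne, if_neg h, add_zero]
    · have h' : ¬ (r = 0 ∧ s = 4) := by
        rintro ⟨rfl, rfl⟩
        exact hrs (by decide)
      rw [show M r s = _ from hu r s (not_lt.1 hrs), if_neg h', add_zero]
  rcases (by decide +kernel : ∀ a : ZMod 2, a = 0 ∨ a = 1) (M 0 4) with h | h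
  · left
    apply Subtype.ext
    ext r s
    rw [← hM, hval, h, Matrix.SpecialLinearGroup.coe_one, Matrix.one_apply]
    simp
  · right
    apply Subtype.ext
    ext r s
    rw [← hM, hval, h, top, Matrix.SpecialLinearGroup.transvection_coe, Matrix.add_apply, Matrix.one_apply,
      Matrix.single_apply]
    simp [eq_comm]

/-- In the centralizer of a transvection of `SL(5,2)` every Sylow two-subgroup has centre of order at most two. -/
theorem sylow_center {s : SL(5, ZMod 2)}
    (hs : (s : Matrix (Fin 5) (Fin 5) (ZMod 2)) = Matrix.transvection 0 1 1)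
    (T : Sylow 2 ↥(Subgroup.centralizer ({s} : Set SL(5, ZMod 2)))) :
    Nat.card (Subgroup.center ↥(T : Subgroup ↥(Subgroup.centralizer ({s} : Set SL(5, ZMod 2))))) ≤ 2 := by
  classical
  haveI : Fact (Nat.Prime 2) := ⟨Nat.prime_two⟩
  set U : Subgroup SL(5, ZMod 2) := AutPSL.unitri
  have hconj : swapMat * top * swapMat⁻¹ = s := by
    rw [mul_inv_eq_iff_eq_mul]
    apply Subtype.ext
    rw [Matrix.SpecialLinearGroup.coe_mul, Matrix.SpecialLinearGroup.coe_mul, hs]
    decide +kernel
  set V := U.map (MulAut.conj swapMat).toMonoidHom with hV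
  have hVC : V ≤ Subgroup.centralizer ({s} : Set SL(5, ZMod 2)) := by
    rintro _ ⟨u, hu, rfl⟩
    rw [Subgroup.mem_centralizer_singleton_iff]
    show swapMat * u * swapMat⁻¹ * s = s * (swapMat * u * swapMat⁻¹)
    rw [← hconj]
    calc swapMat * u * swapMat⁻¹ * (swapMat * top * swapMat⁻¹) = swapMat * (u * top) * swapMat⁻¹ := by group
      _ = swapMat * (top * u) * swapMat⁻¹ := by rw [top_central hu]
      _ = _ := by group
  have hVcard : Nat.card V = 2 ^ (Nat.card SL(5, ZMod 2)).factorization 2 := by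
    rw [hV, Subgroup.card_map_of_injective (MulEquiv.injective _)]
    exact AutPSL.card_unitri_eq_pow 2
  have hVT : Nat.card (V.subgroupOf (Subgroup.centralizer ({s} : Set SL(5, ZMod 2)))) =
      2 ^ (Nat.card ↥(Subgroup.centralizer ({s} : Set SL(5, ZMod 2)))).factorization 2 := by
    rw [Nat.card_congr (Subgroup.subgroupOfEquivOfLe hVC).toEquiv, hVcard]
    refine congrArg _ (le_antisymm ?_ ?_)
    · have := Subgroup.card_dvd_of_le hVC
      rw [hVcard] at this
      exact (Nat.prime_two.pow_dvd_iff_le_factorization Nat.card_pos.ne').1 this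
    · exact (Nat.factorization_le_iff_dvd Nat.card_pos.ne' Nat.card_pos.ne').2 (Subgroup.card_subgroup_dvd_card _) 2
  let T₀ : Sylow 2 ↥(Subgroup.centralizer ({s} : Set SL(5, ZMod 2))) := Sylow.ofCard _ hVT
  have e : (T : Subgroup ↥(Subgroup.centralizer ({s} : Set SL(5, ZMod 2)))) ≃* U :=
    ((Sylow.equiv T T₀).trans (Subgroup.subgroupOfEquivOfLe hVC)).trans
      (Subgroup.equivMapOfInjective U _ (MulEquiv.injective _)).symm
  rw [Nat.card_congr (Subgroup.centerCongr e).toEquiv]
  let f : Subgroup.center ↥U → Fin 2 := fun u => if ((u : U) : SL(5, ZMod 2)) = 1 then 0 else 1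
  have hf : Function.Injective f := by
    intro u v h
    have key : ∀ w : Subgroup.center ↥U, ((w : U) : SL(5, ZMod 2)) = 1 ∨ ((w : U) : SL(5, ZMod 2)) = top :=
      fun w => center_unitri w.1.2 fun x hx =>
        (congrArg Subtype.val (Subgroup.mem_center_iff.1 w.2 ⟨x, hx⟩)).symm
    apply Subtype.ext; apply Subtype.ext
    simp only [f] at h
    rcases key u with hu | hu <;> rcases key v with hv | hv <;> simp [hu, hv] at h ⊢ <;> simp [h]
  simpa using Nat.card_le_card_of_injective f hf

/-- An involution whose centralizer has a Sylow two-subgroup with centre of order two. -/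
theorem index_odd {G : Type*} [Group G] [Finite G] (z : G) (hz : orderOf z = 2)
    (C : Subgroup G) (hC : ∀ g : G, g ∈ C ↔ g * z = z * g) (T : Sylow 2 ↥C)
    (hT : Nat.card (Subgroup.center ↥(T : Subgroup ↥C)) ≤ 2) :
    ¬ 2 ∣ ((T : Subgroup ↥C).map C.subtype).index := by
  classical
  haveI : Fact (Nat.Prime 2) := ⟨Nat.prime_two⟩
  set T' := (T : Subgroup C).map C.subtype with hT'
  obtain ⟨P, hP⟩ := (T.2.map C.subtype).exists_le_sylow
  suffices h : (P : Subgroup G) = T' by rw [← h]; exact P.not_dvd_index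
  have hzC : z ∈ C := (hC z).2 rfl
  have hzT : (⟨z, hzC⟩ : C) ∈ (T : Subgroup C) := by
    have hzc : (⟨z, hzC⟩ : C) ∈ Subgroup.center C := Subgroup.mem_center_iff.2 fun g =>
      Subtype.ext ((hC g).1 g.2)
    haveI : (Subgroup.zpowers (⟨z, hzC⟩ : C)).Normal :=
      ⟨fun n hn g => by rw [Subgroup.mem_center_iff.1 (Subgroup.zpowers_le.2 hzc hn) g, mul_inv_cancel_right]; exact hn⟩
    have hp : IsPGroup 2 (Subgroup.zpowers (⟨z, hzC⟩ : C)) := IsPGroup.of_card (n := 1) (by
      rw [Nat.card_zpowers, ← Subgroup.orderOf_coe, pow_one]; exact hz)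
    exact (T.3 (T.2.to_sup_of_normal_right hp) le_sup_left).le (Subgroup.mem_sup_right (Subgroup.mem_zpowers _))
  have hzT' : z ∈ T' := ⟨_, hzT, rfl⟩
  have hcz : ∀ x ∈ T', (∀ t ∈ T', t * x = x * t) → x = 1 ∨ x = z := by
    rintro _ ⟨a, ha, rfl⟩ hcomm
    by_contra hne
    push Not at hne
    have hac : (⟨a, ha⟩ : (T : Subgroup C)) ∈ Subgroup.center (T : Subgroup C) :=
      Subgroup.mem_center_iff.2 fun t => Subtype.ext (Subtype.ext (hcomm _ ⟨t, t.2, rfl⟩))
    have hzc : (⟨⟨z, hzC⟩, hzT⟩ : (T : Subgroup C)) ∈ Subgroup.center (T : Subgroup C) :=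
      Subgroup.mem_center_iff.2 fun t => Subtype.ext (Subtype.ext ((hC _).1 t.1.2))
    let f : Fin 3 → Subgroup.center (T : Subgroup C) := ![1, ⟨_, hac⟩, ⟨_, hzc⟩]
    have hf : Function.Injective f := by
      have hz1 : z ≠ 1 := fun h => by simp [h] at hz
      intro i j h
      have h' := congrArg (fun w : Subgroup.center (T : Subgroup C) => (((w : (T : Subgroup C)) : C) : G)) h
      fin_cases i <;> fin_cases j <;> simp [f] at h' ⊢
      all_goals first
        | exact hne.1 h' | exact hne.1 h'.symm | exact hne.2 h' | exact hne.2 h'.symm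
        | exact hz1 h' | exact hz1 h'.symm
        | exact hne.1 (by simpa using h') | exact hne.1 (by simpa using h'.symm)
    have := (Nat.card_le_card_of_injective f hf).trans hT
    simp at this
  refine le_antisymm ?_ hP
  haveI : Group.IsNilpotent (P : Subgroup G) := P.2.isNilpotent
  by_contra hne
  have hlt : T'.subgroupOf (P : Subgroup G) < ⊤ := lt_top_iff_ne_top.2 fun h =>
    hne (Subgroup.subgroupOf_eq_top.1 h)
  obtain ⟨y, hyN, hyT⟩ := SetLike.exists_of_lt
    (Group.normalizerCondition_of_isNilpotent (T'.subgroupOf (P : Subgroup G)) hlt)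
  have hyz : (y : G) * z * (y : G)⁻¹ = z := by
    have hmem : ∀ t ∈ T', (y : G) * t * (y : G)⁻¹ ∈ T' := fun t ht => by
      have := (hyN ⟨t, hP ht⟩).1 (Subgroup.mem_subgroupOf.2 ht)
      exact Subgroup.mem_subgroupOf.1 this
    have hmem' : ∀ t ∈ T', (y : G)⁻¹ * t * (y : G) ∈ T' := fun t ht => by
      have := (hyN (y⁻¹ * ⟨t, hP ht⟩ * y)).2 (by
        show ((y * (y⁻¹ * ⟨t, hP ht⟩ * y) * y⁻¹ : (P : Subgroup G)) : G) ∈ T'
        simpa [mul_assoc] using ht)
      exact Subgroup.mem_subgroupOf.1 this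
    rcases hcz _ (hmem z hzT') (fun t ht => by
      have h1 : (y : G)⁻¹ * t * (y : G) * z = z * ((y : G)⁻¹ * t * (y : G)) := by
        obtain ⟨a, -, ha⟩ := hmem' t ht
        rw [← ha]
        exact (hC _).1 a.2
      calc t * ((y : G) * z * (y : G)⁻¹) = (y : G) * ((y : G)⁻¹ * t * (y : G) * z) * (y : G)⁻¹ := by group
        _ = (y : G) * (z * ((y : G)⁻¹ * t * (y : G))) * (y : G)⁻¹ := by rw [h1]
        _ = (y : G) * z * (y : G)⁻¹ * t := by group) with h | h
    · exfalso
      rw [conj_eq_one_iff] at h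
      simp [h] at hz
    · exact h
  have hyC : (y : G) ∈ C := (hC _).2 (mul_inv_eq_iff_eq_mul.1 hyz)
  have hle : (T : Subgroup C) ≤ ((P : Subgroup G).subgroupOf C) := fun a ha =>
    Subgroup.mem_subgroupOf.2 (hP ⟨a, ha, rfl⟩)
  have heq := T.3 (P.2.comap_of_injective C.subtype C.subtype_injective) hle
  refine hyT (Subgroup.mem_subgroupOf.2 ⟨⟨y, hyC⟩, ?_, rfl⟩)
  show (⟨y, hyC⟩ : C) ∈ (T : Subgroup C)
  rw [← heq]
  exact Subgroup.mem_comap.2 y.2

end CfsgLib.TransvSylow
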